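import Mathlib
import Groth.Agent.VarDim.Basic

/-!
# Noether normalization adapted to a chain of ideals

The section `Nagata` reproduces the private lemmas of Mathlib's proof of Noether normalization
(Copyright (c) 2025 Sihan Su, Riccardo Brasca, Wan Lin, Xiaoyang Su; Apache 2.0 license).
-/

set_option autoImplicit false
universe u
open MvPolynomial

namespace Groth.Agent.NNChain

namespace Nagata
open Polynomial MvPolynomial Ideal Nat RingHom List

variable {k : Type*} [Field k] {n : ℕ} (f : MvPolynomial (Fin (n + 1)) k)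
variable (v w : Fin (n + 1) →₀ ℕ)

section equivT

/-- `up` is defined as `2 + f.totalDegree`. Any big enough number would work. -/
local notation3 "up" => 2 + f.totalDegree

variable {f v} in
lemma lt_up (vlt : ∀ i, v i < up) : ∀ l ∈ ofFn v, l < up := by
  grind

/-- `r` maps `(i : Fin (n + 1))` to `up ^ i`. -/
local notation3 "r" => fun (i : Fin (n + 1)) ↦ up ^ i.1

/-- We construct an algebra map `T1 f c` which maps `X_i` into `X_i + c • X_0 ^ r_i` when `i ≠ 0`
and `X_0` to `X_0`. -/
noncomputable abbrev T1 (c : k) :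
    MvPolynomial (Fin (n + 1)) k →ₐ[k] MvPolynomial (Fin (n + 1)) k :=
  aeval fun i ↦ if i = 0 then X 0 else X i + c • X 0 ^ r i

lemma t1_comp_t1_neg (c : k) : (T1 f c).comp (T1 f (-c)) = AlgHom.id _ _ := by
  rw [comp_aeval, ← MvPolynomial.aeval_X_left]
  ext i v
  cases i using Fin.cases <;> simp

/-- `T1 f 1` leads to an algebra equiv `T f`. -/
noncomputable abbrev T := AlgEquiv.ofAlgHom (T1 f 1) (T1 f (-1))
  (t1_comp_t1_neg f 1) (by simpa using t1_comp_t1_neg f (-1))

lemma sum_r_mul_ne (vlt : ∀ i, v i < up) (wlt : ∀ i, w i < up) (ne : v ≠ w) :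
    ∑ x : Fin (n + 1), r x * v x ≠ ∑ x : Fin (n + 1), r x * w x := by
  intro h
  refine ne <| Finsupp.ext <| congrFun <| ofFn_inj.mp ?_
  apply ofDigits_inj_of_len_eq (Nat.lt_add_right f.totalDegree one_lt_two)
    (by simp) (lt_up vlt) (lt_up wlt)
  simpa only [ofDigits_eq_sum_mapIdx, mapIdx_eq_ofFn, get_ofFn, length_ofFn,
    Fin.val_cast, mul_comm, sum_ofFn] using! h

lemma degreeOf_zero_t {a : k} (ha : a ≠ 0) : ((T f) (monomial v a)).degreeOf 0 =
    ∑ i : Fin (n + 1), (r i) * v i := by
  rw [← natDegree_finSuccEquiv, monomial_eq, Finsupp.prod_pow v fun a ↦ X a]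
  simp only [Fin.prod_univ_succ, Fin.sum_univ_succ, map_mul, map_prod, map_pow,
    AlgEquiv.ofAlgHom_apply, MvPolynomial.aeval_C, MvPolynomial.aeval_X, if_pos, Fin.succ_ne_zero,
    ite_false, one_smul, map_add, finSuccEquiv_X_zero, finSuccEquiv_X_succ, algebraMap_eq]
  have h (i : Fin n) :
      (Polynomial.C (X (R := k) i) + Polynomial.X ^ r i.succ) ^ v i.succ ≠ 0 :=
    pow_ne_zero (v i.succ) (leadingCoeff_ne_zero.mp <| by simp [add_comm, leadingCoeff_X_pow_add_C])
  rw [natDegree_mul (by simp [ha]) (mul_ne_zero (by simp) (Finset.prod_ne_zero_iff.mpr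
    (fun i _ ↦ h i))), natDegree_mul (by simp) (Finset.prod_ne_zero_iff.mpr (fun i _ ↦ h i)),
    natDegree_prod _ _ (fun i _ ↦ h i), natDegree_finSuccEquiv, degreeOf_C]
  simpa only [natDegree_pow, zero_add, natDegree_X, mul_one, Fin.val_zero, pow_zero, one_mul,
    add_right_inj] using Finset.sum_congr rfl (fun i _ ↦ by
    rw [add_comm (Polynomial.C _), natDegree_X_pow_add_C, mul_comm])

/-- `T` maps different monomials of `f` to polynomials with different degrees in `X_0`. -/
lemma degreeOf_t_ne_of_ne (hv : v ∈ f.support) (hw : w ∈ f.support) (ne : v ≠ w) :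
    (T f <| monomial v <| coeff v f).degreeOf 0 ≠
    (T f <| monomial w <| coeff w f).degreeOf 0 := by
  rw [degreeOf_zero_t _ _ <| mem_support_iff.mp hv, degreeOf_zero_t _ _ <| mem_support_iff.mp hw]
  refine sum_r_mul_ne f v w (fun i ↦ ?_) (fun i ↦ ?_) ne <;>
  exact lt_of_le_of_lt ((monomial_le_degreeOf i ‹_›).trans (degreeOf_le_totalDegree f i))
    (by lia)

lemma leadingCoeff_finSuccEquiv_t :
    (finSuccEquiv k n ((T f) ((monomial v) (coeff v f)))).leadingCoeff =
    algebraMap k _ (coeff v f) := by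
  rw [monomial_eq, Finsupp.prod_fintype]
  · simp only [map_mul, map_prod, leadingCoeff_mul, leadingCoeff_prod]
    rw [AlgEquiv.ofAlgHom_apply, algHom_C, algebraMap_eq, finSuccEquiv_apply,
      eval₂Hom_C, coe_comp]
    simp only [AlgEquiv.ofAlgHom_apply, Function.comp_apply, leadingCoeff_C, map_pow,
      leadingCoeff_pow, algebraMap_eq]
    have : ∀ j, ((finSuccEquiv k n) ((T1 f) 1 (X j))).leadingCoeff = 1 := fun j ↦ by
      by_cases h : j = 0
      · simp [h, finSuccEquiv_apply]
      · simp only [aeval_eq_bind₁, bind₁_X_right, if_neg h, one_smul, map_add, map_pow]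
        obtain ⟨i, rfl⟩ := Fin.exists_succ_eq.mpr h
        simp [finSuccEquiv_X_succ, finSuccEquiv_X_zero, add_comm]
    simp only [this, one_pow, Finset.prod_const_one, mul_one]
  exact fun i ↦ pow_zero _

/-- `T` maps `f` into some polynomial in `X_0` such that the leading coefficient is invertible. -/
lemma T_leadingcoeff_isUnit (fne : f ≠ 0) :
    IsUnit (finSuccEquiv k n (T f f)).leadingCoeff := by
  obtain ⟨v, vin, vs⟩ := Finset.exists_max_image f.support
    (fun v ↦ (T f ((monomial v) (coeff v f))).degreeOf 0) (support_nonempty.mpr fne)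
  set h := fun w ↦ (MvPolynomial.monomial w) (coeff w f)
  simp only [← natDegree_finSuccEquiv] at vs
  replace vs : ∀ x ∈ f.support \ {v}, (finSuccEquiv k n ((T f) (h x))).degree <
      (finSuccEquiv k n ((T f) (h v))).degree := by
    intro x hx
    obtain ⟨h1, h2⟩ := Finset.mem_sdiff.mp hx
    apply degree_lt_degree <| lt_of_le_of_ne (vs x h1) ?_
    simpa only [natDegree_finSuccEquiv]
      using degreeOf_t_ne_of_ne f _ _ h1 vin <| ne_of_not_mem_cons h2
  have coeff : (finSuccEquiv k n ((T f) (h v + ∑ x ∈ f.support \ {v}, h x))).leadingCoeff =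
      (finSuccEquiv k n ((T f) (h v))).leadingCoeff := by
    simp only [map_add, map_sum]
    rw [add_comm]
    apply leadingCoeff_add_of_degree_lt <| (lt_of_le_of_lt <| degree_sum_le _ _) ?_
    have h2 : h v ≠ 0 := by simpa [h] using mem_support_iff.mp vin
    replace h2 : (finSuccEquiv k n ((T f) (h v))) ≠ 0 := fun eq ↦ h2 <|
      by simpa only [map_eq_zero_iff _ (AlgEquiv.injective _)] using eq
    exact (Finset.sup_lt_iff <| Ne.bot_lt (fun x ↦ h2 <| degree_eq_bot.mp x)).mpr vs
  nth_rw 2 [← f.support_sum_monomial_coeff]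
  rw [Finset.sum_eq_add_sum_sdiff_singleton_of_mem vin h]
  rw [leadingCoeff_finSuccEquiv_t] at coeff
  simpa only [coeff, algebraMap_eq] using (mem_support_iff.mp vin).isUnit.map MvPolynomial.C

end equivT

end Nagata

variable {k : Type u} [Field k]

/-- the ideal of the first `m` variables -/
noncomputable def J (k : Type u) [Field k] (n m : ℕ) : Ideal (MvPolynomial (Fin n) k) :=
  Ideal.span (MvPolynomial.X '' {l : Fin n | (l : ℕ) < m})

theorem J_zero (n : ℕ) : J k n 0 = ⊥ := by
  simp [J]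

theorem J_mono (n : ℕ) {a b : ℕ} (h : a ≤ b) : J k n a ≤ J k n b :=
  Ideal.span_mono (Set.image_mono fun _ hl => lt_of_lt_of_le hl h)

/-- setting the first variable to zero -/
noncomputable def ε (k : Type u) [Field k] (n : ℕ) :
    MvPolynomial (Fin (n + 1)) k →ₐ[k] MvPolynomial (Fin n) k :=
  aeval (Fin.cases 0 X)

theorem ε_rename (n : ℕ) (p : MvPolynomial (Fin n) k) : ε k n (rename Fin.succ p) = p := by
  rw [ε, aeval_rename]
  exact aeval_X_left_apply p

theorem sub_rename_ε_mem (n : ℕ) (q : MvPolynomial (Fin (n + 1)) k) :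
    q - rename Fin.succ (ε k n q) ∈ J k (n + 1) 1 := by
  rw [← Ideal.Quotient.eq]
  have : Ideal.Quotient.mkₐ k (J k (n + 1) 1) =
      (Ideal.Quotient.mkₐ k (J k (n + 1) 1)).comp ((rename Fin.succ).comp (ε k n)) := by
    refine MvPolynomial.algHom_ext fun i => ?_
    cases i using Fin.cases with
    | zero =>
      simp only [AlgHom.comp_apply, ε, aeval_X, Fin.cases_zero, map_zero]
      exact Ideal.Quotient.eq_zero_iff_mem.2 (Ideal.subset_span ⟨0, by simp, rfl⟩)
    | succ i => simp [ε]
  exact DFunLike.congr_fun this q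

theorem J_succ (n m : ℕ) : J k (n + 1) (m + 1) = (J k n m).comap (ε k n) := by
  refine le_antisymm (Ideal.span_le.2 ?_) fun q hq => ?_
  · rintro _ ⟨l, hl, rfl⟩
    rw [SetLike.mem_coe, Ideal.mem_comap, ε, aeval_X]
    cases l using Fin.cases with
    | zero => simp
    | succ i => exact Ideal.subset_span ⟨i, by simpa using hl, rfl⟩
  · rw [← sub_add_cancel q (rename Fin.succ (ε k n q))]
    refine Ideal.add_mem _ (J_mono _ (by omega) (sub_rename_ε_mem n q)) ?_
    have h := Ideal.mem_map_of_mem (rename Fin.succ (R := k)) (Ideal.mem_comap.1 hq)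
    rw [J, Ideal.map_span] at h
    refine Ideal.span_le.2 ?_ h
    rintro _ ⟨_, ⟨l, hl, rfl⟩, rfl⟩
    rw [rename_X]
    exact Ideal.subset_span ⟨l.succ, by simpa using hl, rfl⟩

/-- the quotient by the first `m` variables is a polynomial ring in the other variables -/
theorem exists_surjective_ker_J (e : ℕ) : ∀ m : ℕ,
    ∃ α : MvPolynomial (Fin (e + m)) k →ₐ[k] MvPolynomial (Fin e) k,
      Function.Surjective α ∧ RingHom.ker α = J k (e + m) m
  | 0 => ⟨AlgHom.id k _, Function.surjective_id, by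
      rw [J_zero, RingHom.ker_eq_bot_iff_eq_zero]; exact fun _ h => h⟩
  | m + 1 => by
    obtain ⟨α, hα, hk⟩ := exists_surjective_ker_J e m
    refine ⟨α.comp (ε k (e + m)), hα.comp fun p => ⟨_, ε_rename _ p⟩, ?_⟩
    change RingHom.ker (α.comp (ε k (e + m))) = J k (e + m + 1) (m + 1)
    rw [J_succ, ← hk]
    ext q
    simp [RingHom.mem_ker]

theorem J_isPrime {n m : ℕ} (h : m ≤ n) : (J k n m).IsPrime := by
  obtain ⟨e, rfl⟩ := Nat.exists_eq_add_of_le' h
  obtain ⟨α, -, hk⟩ := exists_surjective_ker_J (k := k) e m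
  rw [← hk]
  exact RingHom.ker_isPrime _

theorem J_lt {n m : ℕ} (h : m < n) : J k n m < J k n (m + 1) := by
  refine lt_of_le_of_ne (J_mono n (Nat.le_succ m)) fun he => ?_
  have h1 : (X ⟨m, h⟩ : MvPolynomial (Fin n) k) ∈ J k n m :=
    he.symm ▸ Ideal.subset_span ⟨⟨m, h⟩, Nat.lt_succ_self m, rfl⟩
  obtain ⟨i, hi, hi'⟩ := mem_ideal_span_X_image.1 h1 (Finsupp.single ⟨m, h⟩ 1) (by classical simp)
  by_cases hmi : (⟨m, h⟩ : Fin n) = i
  · subst hmi
    exact lt_irrefl m hi
  · exact hi' (Finsupp.single_eq_of_ne' hmi)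

theorem J_inj {n a b : ℕ} (ha : a ≤ n) (hb : b ≤ n) (h : J k n a = J k n b) : a = b := by
  by_contra hab
  rcases lt_or_gt_of_ne hab with hlt | hlt
  · exact (lt_of_lt_of_le (J_lt (lt_of_lt_of_le hlt hb)) (J_mono n hlt)).ne h
  · exact (lt_of_lt_of_le (J_lt (lt_of_lt_of_le hlt ha)) (J_mono n hlt)).ne h.symm

/-- polynomial maps are integral when the map on coefficients is and `X` is integral over the image -/
theorem isIntegral_of_C_X {R B : Type*} [CommRing R] [CommRing B] (ψ : R →+* Polynomial B)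
    (hC : ∀ b, ψ.IsIntegralElem (Polynomial.C b)) (hX : ψ.IsIntegralElem Polynomial.X) : ψ.IsIntegral := by
  intro p
  induction p using Polynomial.induction_on' with
  | add p q hp hq => exact hp.add ψ hq
  | monomial i b =>
    rw [← Polynomial.C_mul_X_pow_eq_monomial]
    refine (hC b).mul ψ ?_
    induction i with
    | zero => rw [pow_zero]; exact RingHom.isIntegralElem_one ψ
    | succ i ih => rw [pow_succ]; exact ih.mul ψ hX

theorem mapRingHom_isIntegral {R B : Type*} [CommRing R] [CommRing B] (φ : R →+* B) (hφ : φ.IsIntegral) :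
    (Polynomial.mapRingHom φ).IsIntegral := by
  refine isIntegral_of_C_X _ (fun b => ?_) ?_
  · obtain ⟨P, hm, hP⟩ := hφ b
    refine ⟨P.map Polynomial.C, hm.map _, ?_⟩
    rw [Polynomial.eval₂_map, Polynomial.mapRingHom_comp_C, ← Polynomial.hom_eval₂, hP, map_zero]
  · have := RingHom.isIntegralElem_map (f := Polynomial.mapRingHom φ) (x := (Polynomial.X : Polynomial R))
    simpa using this

/-- `S[Z] → S[X]`, `Z ↦ g` is integral and injective for `g` of positive degree with unit leading coefficient -/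
theorem aeval_integral_injective {S : Type*} [CommRing S] [IsDomain S] {g : Polynomial S}
    (hu : IsUnit g.leadingCoeff) (hd : 0 < g.natDegree) :
    (Polynomial.aeval (R := S) g).toRingHom.IsIntegral ∧ Function.Injective (Polynomial.aeval (R := S) g) := by
  refine ⟨isIntegral_of_C_X _ (fun b => ?_) ?_, (injective_iff_map_eq_zero _).2 fun p hp => ?_⟩
  · have := RingHom.isIntegralElem_map (f := (Polynomial.aeval g).toRingHom) (x := Polynomial.C b)
    simpa using this
  · let g₀ : Polynomial S := Polynomial.C (↑hu.unit⁻¹ : S) * g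
    have hm : g₀.Monic := Polynomial.monic_C_mul_of_mul_leadingCoeff_eq_one (by simp)
    have hd₀ : 0 < g₀.natDegree := by
      rw [Polynomial.natDegree_C_mul_of_mul_ne_zero (by simp)]; exact hd
    refine ⟨g₀.map Polynomial.C - Polynomial.C (Polynomial.C (↑hu.unit⁻¹ : S) * Polynomial.X),
      (hm.map _).sub_of_left ?_, ?_⟩
    · refine lt_of_le_of_lt Polynomial.degree_C_le ?_
      rwa [Polynomial.degree_map_eq_of_injective Polynomial.C_injective, ← Polynomial.natDegree_pos_iff_degree_pos]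
    · have hc : (Polynomial.aeval g).toRingHom.comp Polynomial.C = Polynomial.C := by ext; simp
      rw [Polynomial.eval₂_sub, Polynomial.eval₂_map, hc, Polynomial.eval₂_C, Polynomial.eval₂_C_X]
      simp [g₀]
  · rw [← Polynomial.comp_eq_aeval, Polynomial.comp_eq_zero_iff] at hp
    refine hp.resolve_right fun h => ?_
    rw [h.2, Polynomial.natDegree_C] at hd
    exact lt_irrefl 0 hd

/-- a nonconstant polynomial can be made a coordinate after a finite injective substitution -/
theorem exists_first_coordinate {n : ℕ} (f : MvPolynomial (Fin (n + 1)) k) (h0 : f ≠ 0) (hu : ¬ IsUnit f) :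
    ∃ ψ : MvPolynomial (Fin (n + 1)) k →ₐ[k] MvPolynomial (Fin (n + 1)) k,
      ψ.toRingHom.IsIntegral ∧ Function.Injective ψ ∧ ψ (X 0) = f := by
  let e := (Nagata.T f).trans (finSuccEquiv k n)
  have hl : IsUnit (e f).leadingCoeff := Nagata.T_leadingcoeff_isUnit f h0
  have hd : 0 < (e f).natDegree := by
    refine Nat.pos_of_ne_zero fun h => hu ((isUnit_map_iff e f).1 ?_)
    rw [Polynomial.leadingCoeff, h] at hl
    rw [Polynomial.eq_C_of_natDegree_eq_zero h]
    exact hl.map Polynomial.C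
  obtain ⟨hint, hinj⟩ := aeval_integral_injective hl hd
  refine ⟨e.symm.toAlgHom.comp (((Polynomial.aeval (e f)).restrictScalars k).comp (finSuccEquiv k n).toAlgHom),
    ?_, ?_, ?_⟩
  · exact ((RingHom.isIntegral_of_surjective _ (finSuccEquiv k n).surjective).trans _ _ hint).trans _ _
      (RingHom.isIntegral_of_surjective _ e.symm.surjective)
  · exact e.symm.injective.comp (hinj.comp (finSuccEquiv k n).injective)
  · change e.symm (Polynomial.aeval (e f) (finSuccEquiv k n (X 0))) = f
    rw [finSuccEquiv_X_zero, Polynomial.aeval_X, AlgEquiv.symm_apply_apply]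

/-- extension of a substitution by one variable -/
theorem exists_extend {n : ℕ} (φ : MvPolynomial (Fin n) k →ₐ[k] MvPolynomial (Fin n) k)
    (hint : φ.toRingHom.IsIntegral) (hinj : Function.Injective φ) :
    ∃ Φ : MvPolynomial (Fin (n + 1)) k →ₐ[k] MvPolynomial (Fin (n + 1)) k,
      Φ.toRingHom.IsIntegral ∧ Function.Injective Φ ∧ Φ (X 0) = X 0 ∧
        ∀ p, Φ (rename Fin.succ p) = rename Fin.succ (φ p) := by
  let e := finSuccEquiv k n
  refine ⟨e.symm.toAlgHom.comp ((Polynomial.mapAlgHom φ).comp e.toAlgHom), ?_, ?_, ?_, ?_⟩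
  · exact ((RingHom.isIntegral_of_surjective _ e.surjective).trans _ _ (mapRingHom_isIntegral _ hint)).trans _ _
      (RingHom.isIntegral_of_surjective _ e.symm.surjective)
  · exact e.symm.injective.comp ((Polynomial.map_injective _ hinj).comp e.injective)
  · change e.symm (Polynomial.mapAlgHom φ (e (X 0))) = X 0
    rw [AlgEquiv.symm_apply_eq, finSuccEquiv_X_zero]
    simp
  · intro p
    change e.symm (Polynomial.mapAlgHom φ (e (rename Fin.succ p))) = _
    have h : ∀ q : MvPolynomial (Fin n) k, e (rename Fin.succ q) = Polynomial.C q := by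
      refine fun q => DFunLike.congr_fun (MvPolynomial.algHom_ext (f := e.toAlgHom.comp (rename Fin.succ))
        (g := IsScalarTower.toAlgHom k _ _) fun i => ?_) q
      simp [e, finSuccEquiv_X_succ]
    rw [AlgEquiv.symm_apply_eq, h, h]
    simp

theorem comap_eq_bot_of_injective {A B F : Type*} [CommRing A] [CommRing B] [FunLike F A B] [RingHomClass F A B]
    {φ : F} (h : Function.Injective φ) : (⊥ : Ideal B).comap φ = ⊥ := by
  ext x
  simp [map_eq_zero_iff φ h]

/-- **Noether normalization of a chain of ideals in a polynomial ring.** -/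
theorem exists_adapted : ∀ (n r : ℕ) (I : Fin r → Ideal (MvPolynomial (Fin n) k)), Monotone I → (∀ i, I i ≠ ⊤) →
    ∃ (φ : MvPolynomial (Fin n) k →ₐ[k] MvPolynomial (Fin n) k) (h : Fin r → ℕ),
      φ.toRingHom.IsIntegral ∧ Function.Injective φ ∧ ∀ i, h i ≤ n ∧ (I i).comap φ = J k n (h i)
  | 0, r, I, hI, hne => by
    refine ⟨AlgHom.id k _, fun _ => 0, RingHom.isIntegral_of_surjective _ Function.surjective_id,
      Function.injective_id, fun i => ⟨le_rfl, ?_⟩⟩
    rw [J_zero]
    refine (Submodule.eq_bot_iff _).2 fun x hx => by_contra fun hx0 => hne i ?_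
    rw [eq_C_of_isEmpty x] at hx hx0
    refine Ideal.eq_top_of_isUnit_mem _ hx (IsUnit.map MvPolynomial.C (isUnit_iff_ne_zero.2 fun h => hx0 ?_))
    simp [h]
  | n + 1, r, I, hI, hne => by
    classical
    by_cases hall : ∀ i, I i = ⊥
    · refine ⟨AlgHom.id k _, fun _ => 0, RingHom.isIntegral_of_surjective _ Function.surjective_id,
        Function.injective_id, fun i => ⟨Nat.zero_le _, ?_⟩⟩
      rw [J_zero, hall i]
      exact comap_eq_bot_of_injective Function.injective_id
    push_neg at hall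
    let S : Finset (Fin r) := Finset.univ.filter fun i => I i ≠ ⊥
    have hS : S.Nonempty := hall.imp fun i hi => by simp [S, hi]
    obtain ⟨f, hf, hf0⟩ := Submodule.exists_mem_ne_zero_of_ne_bot
      (by simpa [S] using S.min'_mem hS : I (S.min' hS) ≠ ⊥)
    have hfu : ¬ IsUnit f := fun h => hne _ (Ideal.eq_top_of_isUnit_mem _ hf h)
    have hfI : ∀ i, I i ≠ ⊥ → f ∈ I i := fun i hi => hI (S.min'_le i (by simp [S, hi])) hf
    obtain ⟨ψ, hψi, hψj, hψ0⟩ := exists_first_coordinate f hf0 hfu
    obtain ⟨φ, h, hφi, hφj, hh⟩ := exists_adapted n r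
      (fun i => ((I i).comap ψ).comap (rename Fin.succ (R := k)))
      (fun a b hab => Ideal.comap_mono (Ideal.comap_mono (hI hab)))
      (fun i => Ideal.comap_ne_top _ (Ideal.comap_ne_top _ (hne i)))
    obtain ⟨Φ, hΦi, hΦj, hΦ0, hΦ⟩ := exists_extend φ hφi hφj
    refine ⟨ψ.comp Φ, fun i => if I i = ⊥ then 0 else h i + 1, hΦi.trans _ _ hψi, hψj.comp hΦj, fun i => ?_⟩
    dsimp only
    by_cases hi : I i = ⊥
    · rw [if_pos hi, hi, J_zero]
      exact ⟨Nat.zero_le _, comap_eq_bot_of_injective (φ := ψ.comp Φ) (hψj.comp hΦj)⟩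
    rw [if_neg hi, J_succ, ← (hh i).2]
    refine ⟨Nat.succ_le_succ (hh i).1, Ideal.ext fun q => ?_⟩
    simp only [Ideal.mem_comap, AlgHom.comp_apply]
    rw [← hΦ]
    have h1 : J k (n + 1) 1 ≤ ((I i).comap ψ).comap Φ := by
      refine Ideal.span_le.2 ?_
      rintro _ ⟨l, hl, rfl⟩
      obtain rfl : l = 0 := Fin.ext (Nat.lt_one_iff.1 hl)
      rw [SetLike.mem_coe, Ideal.mem_comap, Ideal.mem_comap, hΦ0, hψ0]
      exact hfI i hi
    have key : ψ (Φ (q - rename Fin.succ (ε k n q))) ∈ I i := h1 (sub_rename_ε_mem n q)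
    rw [map_sub, map_sub] at key
    exact ⟨fun h => by simpa using sub_mem h key, fun h => by simpa using add_mem key h⟩

/-- lifting a prime between two given primes -/
theorem exists_between {A : Type u} [CommRing A] [IsDomain A] [Algebra k A] {d a j c : ℕ} (φ : MvPolynomial (Fin d) k →ₐ[k] A)
    (hint : φ.toRingHom.IsIntegral) (haj : a ≤ j) (hjc : j ≤ c) (hcd : c ≤ d) (P P' : PrimeSpectrum A)
    (hle : P ≤ P') (hP : P.asIdeal.comap φ = J k d a) (hP' : P'.asIdeal.comap φ = J k d c) :
    ∃ Q : PrimeSpectrum A, P ≤ Q ∧ Q ≤ P' ∧ Q.asIdeal.comap φ = J k d j := by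
  obtain ⟨e, rfl⟩ := Nat.exists_eq_add_of_le' (haj.trans (hjc.trans hcd))
  obtain ⟨α, hα, hk⟩ := exists_surjective_ker_J (k := k) e a
  let π := Ideal.Quotient.mk P.asIdeal
  have hker : RingHom.ker α.toRingHom ≤ RingHom.ker (π.comp φ.toRingHom) := fun x hx => by
    have : x ∈ J k (e + a) a := hk ▸ hx
    rw [← hP] at this
    exact Ideal.Quotient.eq_zero_iff_mem.2 this
  let β := RingHom.liftOfSurjective α.toRingHom hα ⟨π.comp φ.toRingHom, hker⟩
  have hβ : β.comp α.toRingHom = π.comp φ.toRingHom :=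
    RingHom.liftOfRightInverse_comp _ _ _ _
  have hβint : β.IsIntegral := by
    refine RingHom.IsIntegral.tower_top α.toRingHom β ?_
    rw [hβ]
    exact hint.trans _ _ (RingHom.isIntegral_of_surjective _ Ideal.Quotient.mk_surjective)
  have hβinj : Function.Injective β := (injective_iff_map_eq_zero β).2 fun y hy => by
    obtain ⟨x, rfl⟩ := hα y
    have : π (φ x) = 0 := (DFunLike.congr_fun hβ x).symm.trans hy
    have : x ∈ RingHom.ker α := by
      rw [hk, ← hP, Ideal.mem_comap]; exact Ideal.Quotient.eq_zero_iff_mem.1 this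
    exact this
  letI := β.toAlgebra
  haveI : Algebra.IsIntegral (MvPolynomial (Fin e) k) (A ⧸ P.asIdeal) := ⟨hβint⟩
  haveI : FaithfulSMul (MvPolynomial (Fin e) k) (A ⧸ P.asIdeal) :=
    (faithfulSMul_iff_algebraMap_injective _ _).2 hβinj
  haveI : IsIntegrallyClosed (MvPolynomial (Fin e) k) := UniqueFactorizationMonoid.instIsIntegrallyClosed
  haveI := J_isPrime (k := k) (hjc.trans hcd)
  haveI hp : ((J k (e + a) j).map α).IsPrime :=
    Ideal.map_isPrime_of_surjective hα (hk.le.trans (J_mono _ haj))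
  have hcomap : ∀ I : Ideal (A ⧸ P.asIdeal), ((I.comap β).comap α.toRingHom) = (I.comap π).comap φ.toRingHom := by
    intro I
    rw [Ideal.comap_comap, Ideal.comap_comap, hβ]
  haveI : (P'.asIdeal.map π).IsPrime :=
    Ideal.map_isPrime_of_surjective Ideal.Quotient.mk_surjective (by rw [Ideal.mk_ker]; exact hle)
  have hπ : (P'.asIdeal.map π).comap π = P'.asIdeal := by
    rw [Ideal.comap_map_of_surjective _ Ideal.Quotient.mk_surjective, ← RingHom.ker_eq_comap_bot, Ideal.mk_ker]
    exact sup_eq_left.2 hle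
  have hq : (J k (e + a) j).map α ≤ (P'.asIdeal.map π).under (MvPolynomial (Fin e) k) := by
    rw [Ideal.map_le_iff_le_comap]
    intro x hx
    have : x ∈ ((P'.asIdeal.map π).comap π).comap φ.toRingHom := by
      rw [hπ]; exact hP'.ge (J_mono _ hjc hx)
    rw [← hcomap] at this
    exact this
  haveI : (P'.asIdeal.map π).LiesOver ((P'.asIdeal.map π).under (MvPolynomial (Fin e) k)) := ⟨rfl⟩
  obtain ⟨Q, hQ, hQp, hQl⟩ := Ideal.exists_ideal_le_liesOver_of_le (P'.asIdeal.map π) hq
  refine ⟨⟨Q.comap π, inferInstance⟩, ?_, ?_, ?_⟩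
  · exact fun x hx => by simp [π, Ideal.Quotient.eq_zero_iff_mem.2 hx]
  · exact (Ideal.comap_mono hQ).trans hπ.le
  · refine (hcomap Q).symm.trans ?_
    have : Q.comap β = (J k (e + a) j).map α := (hQl.over).symm
    rw [this]
    change ((J k (e + a) j).map α).comap α = _
    rw [Ideal.comap_map_of_surjective _ hα]
    exact sup_eq_left.2 ((RingHom.ker_eq_comap_bot α).symm ▸ hk.le.trans (J_mono _ haj))

theorem ringKrullDim_quotient_eq {A : Type u} [CommRing A] [Algebra k A] {d m : ℕ} (hm : m ≤ d)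
    (φ : MvPolynomial (Fin d) k →ₐ[k] A) (hint : φ.toRingHom.IsIntegral) (q : Ideal A) [q.IsPrime]
    (hq : q.comap φ = J k d m) : ringKrullDim (A ⧸ q) = ((d - m : ℕ) : WithBot ℕ∞) := by
  obtain ⟨e, rfl⟩ := Nat.exists_eq_add_of_le' hm
  obtain ⟨α, hα, hk⟩ := exists_surjective_ker_J (k := k) e m
  letI : Algebra (MvPolynomial (Fin (e + m)) k ⧸ q.comap φ) (A ⧸ q) :=
    (Ideal.quotientMap q φ.toRingHom le_rfl).toAlgebra
  haveI : Algebra.IsIntegral (MvPolynomial (Fin (e + m)) k ⧸ q.comap φ) (A ⧸ q) :=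
    ⟨hint.quotient⟩
  haveI : FaithfulSMul (MvPolynomial (Fin (e + m)) k ⧸ q.comap φ) (A ⧸ q) :=
    (faithfulSMul_iff_algebraMap_injective _ _).2 Ideal.quotientMap_injective
  rw [VarDim.ringKrullDim_eq_of_isIntegral (R := MvPolynomial (Fin (e + m)) k ⧸ q.comap φ),
    ringKrullDim_eq_of_ringEquiv ((Ideal.quotEquivOfEq (hq.trans hk.symm)).trans
      (RingHom.quotientKerEquivOfSurjective (f := α.toRingHom) hα)),
    MvPolynomial.ringKrullDim_of_isNoetherianRing, ringKrullDim_eq_zero_of_field, zero_add, Nat.card_fin,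
    Nat.add_sub_cancel]

end Groth.Agent.NNChain
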